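import Cfsg.Agent.KZ.Ch344.Lbl
import Cfsg.Agent.S0249
import Cfsg.Agent.H398.RC.FieldSU
import Cfsg.Agent.H973.B3.PSL
import Cfsg.Agent.LieClassical.HermSimple

/-!
# KZ, characteristic `3`: the fields `l43`, `u43` of `Ch3.Rest` (helper87)
-/

set_option autoImplicit false

namespace Cfsg.Agent.KZ.Ch344

open Cfsg Matrix Cfsg.Agent.KZ.Lie Cfsg.Agent.KZ.Ch3 Subgroup

theorem rest_l43 (hA : BoxApi) : ∀ M : Ideal AlgInt, IsPModular 3 M → ∀ (F : Type) [Field F] [Fintype F] [CharP F 3],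
    Fintype.card F = 3 → ∀ Y : Subgroup (MulAut (ProjectiveSpecialLinearGroup (Fin 4) F)), AdY 27 Y →
      (Inn _).relIndex Y = 2 → Lo3 M (ProjectiveSpecialLinearGroup (Fin 4) F) :=
  fun _ hM _ _ _ _ hF _ h hd => lo3_l43 hA hM hF (S0249.result 4 (by decide)) (H973.B3.not_comm (by decide)) h hd

theorem rest_u43 (hA : BoxApi) : ∀ M : Ideal AlgInt, IsPModular 3 M → ∀ (F : Type) [Field F] [Fintype F] [CharP F 3],
    Fintype.card F = 3 ^ 2 → ∀ Y : Subgroup (MulAut (PSU 4 F 3)), AdY 27 Y → (Inn _).relIndex Y = 4 →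
      (∃ y ∈ Y, Y = Inn _ ⊔ zpowers y) →
      Nat.card {χ : IrrCharacter ↥Y // ¬ 3 ∣ charDegree (χ : ↥Y → ℂ)} ≤ 27 → Lo3 M (PSU 4 F 3) :=
  fun _ hM _ _ _ _ hF _ h hd hc h27 => lo3_u43 hA hM hF
    (LieClassical.HermSimple.isSimpleGroup_of_perfect hF (by decide)
      (LieClassical.HermPerfect.commutator_SU_eq_top hF (by decide) (by decide)))
    (H398.RC.notComm_psu hF (by decide) (by decide)) h hd hc h27

end Cfsg.Agent.KZ.Ch344
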