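import Cfsg.Agent.KZ.Ch3.Defs

/-!
# KZ, characteristic `3`: the lower bound for `|Out S| = 4` and `|Out S| = 8` (helper87)

* `Fxd M S m`: `m` members which are fixed by all automorphisms;
* `lo3_four`, `lo3_eight`.
-/

set_option autoImplicit false

namespace Cfsg.Agent.KZ.Ch344

open Cfsg Cfsg.Agent.KZ.Tool Cfsg.Agent.KZ.Red Cfsg.Agent.KZ.Res Cfsg.Agent.KZ.Ch3 Cfsg.Agent.KZ.Ch3X Subgroup
  Cfsg.Agent.Blocks.Basic

variable {M : Ideal AlgInt}

section Abs

variable {A : Type} [Group A] [Finite A] {N : Subgroup A}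

theorem down (hM : IsPModular 3 M) (h : N.index = 2) : k0 M A ≤ 2 * k0 M ↥N := by
  have := normal_of_index_eq_two h
  have h1 := fx_le (M := M) (N := N)
  rcases index_two hM h.le with e | e <;> omega

theorem up [N.Normal] (hM : IsPModular 3 M) (h : N.index = 2) {m : ℕ} (hm : m ≤ fx M N) (h1 : 10 ≤ k0 M ↥N)
    (h2 : 19 ≤ 3 * m + k0 M ↥N) : 10 ≤ k0 M A := by
  rcases index_two hM h.le with e | e <;> omega

theorem allM_congr (hM : IsPModular 3 M) {B : Type} [Group B] (e : A ≃* B) (h : AllM M B) : AllM M A := fun χ hχ => by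
  obtain ⟨ψ, rfl⟩ := (tr e).surjective χ
  exact (mem_tr hM e).2 (h ψ fun h1 => hχ ((pull_deg e.toMonoidHom e.surjective ψ).symm ▸ h1))

open Classical in
/-- the sign character -/
noncomputable def sgn {L : Subgroup A} (h : L.index = 2) : A →* ℂˣ where
  toFun x := if x ∈ L then 1 else -1
  map_one' := if_pos (one_mem L)
  map_mul' x y := by
    by_cases hx : x ∈ L <;> by_cases hy : y ∈ L <;> simp [mul_mem_iff_of_index_two h, hx, hy]

/-- the two linear characters are fixed -/
theorem two_le_fx [N.Normal] (hM : IsPModular 3 M) {L : Subgroup A} [hL : L.Normal] (h : L.relIndex N = 2)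
    (hm : AllM M ↥N) : 2 ≤ fx M N := by
  classical
  have h1 : charDegree (Res.tw (triv ↥N) (sgn h) : ↥N → ℂ) = charDegree (triv ↥N : ↥N → ℂ) :=
    deg_eq (by rw [Res.tw_apply, map_one, Units.val_one, mul_one])
  refine le_fx (ι := Fin 2) ![triv ↥N, Res.tw (triv ↥N) (sgn h)] ?_ ?_ ?_
  · obtain ⟨x, hx⟩ : ∃ x : ↥N, x ∉ L.subgroupOf N := by
      by_contra h2
      push Not at h2
      have h3 : (L.subgroupOf N).index = 1 := index_eq_one.2 (eq_top_iff.2 fun x _ => h2 x)
      exact absurd (h3.symm.trans h) (by decide)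
    have h2 : triv ↥N ≠ Res.tw (triv ↥N) (sgn h) := fun e => by
      have h3 := congrArg (fun χ : IrrCharacter ↥N => (χ : ↥N → ℂ) x) e
      simp only [Res.tw_apply] at h3
      rw [show sgn h x = -1 from if_neg hx, show (triv ↥N : ↥N → ℂ) x = 1 from rfl] at h3
      norm_num at h3
    intro i j hij
    fin_cases i <;> fin_cases j
    exacts [rfl, absurd hij h2, absurd hij.symm h2, rfl]
  · intro i
    fin_cases i
    exacts [mem_triv hM, hm _ (h1 ▸ (mem_triv hM).2)]
  · intro i g _ x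
    fin_cases i
    · rfl
    · show (1 : ℂ) * (sgn h (MulAut.conjNormal g x) : ℂ) = 1 * sgn h x
      congr 2
      exact if_congr (by
        rw [mem_subgroupOf, mem_subgroupOf, MulAut.conjNormal_apply]
        exact hL.mem_comm_iff.trans (by rw [inv_mul_cancel_left])) rfl rfl

/-- a cyclic quotient of order four -/
theorem ten_of_four [N.Normal] (hM : IsPModular 3 M) (h4 : N.index = 4) {y : A} (hy : N ⊔ zpowers y = ⊤)
    (hm : AllM M A) (h : k0 M A = 27) : 10 ≤ k0 M ↥N := by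
  classical
  have : Finite (IrrCharacter ↥N) := Characters.Core.finite_irr
  have := Fintype.ofFinite (IrrCharacter ↥N)
  have h3 : ¬ 3 ∣ N.index := by omega
  have hc : IsCyclic (A ⧸ N) := ⟨⟨QuotientGroup.mk y, fun x => by
    obtain ⟨g, rfl⟩ := QuotientGroup.mk_surjective x
    have h1 : g ∈ (N ⊔ zpowers y : Subgroup A) := hy ▸ mem_top g
    rw [← SetLike.mem_coe, normal_mul] at h1
    obtain ⟨n, hn, _, ⟨j, rfl⟩, rfl⟩ := h1
    exact ⟨j, by simp [(QuotientGroup.eq_one_iff n).2 hn]⟩⟩⟩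
  have h1 := mass (N := N) hM
  have h2 : Nat.card A = Nat.card ↥N * 4 := by rw [← h4, N.card_mul_index]
  have h5 : ∀ θ, Mem M θ → InvU N ⊤ θ → cc M N θ * Nat.card ↥(stab θ : Subgroup A) = 16 * Nat.card ↥N :=
    fun θ hθ hi => by
    obtain ⟨η, hη⟩ := exists_ext hc hi
    have h6 : cc M N θ = Nat.card {χ : IrrCharacter A // Over N χ θ} :=
      Nat.card_congr (Equiv.subtypeEquivRight fun χ =>
        ⟨fun h => h.2, fun h => ⟨hm χ (not_dvd_deg_of_over h3 h hθ.2), h⟩⟩)
    have h7 : Nat.card (ConjClasses (A ⧸ N)) = N.index := by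
      refine Nat.card_congr (Equiv.ofBijective ConjClasses.mk ⟨fun a b h => ?_, ConjClasses.mk_surjective⟩).symm
      obtain ⟨c, rfl⟩ := isConj_iff.1 (ConjClasses.mk_eq_mk_iff_isConj.1 h)
      have : IsMulCommutative (A ⧸ N) := inferInstance
      rw [mul_comm' c a, mul_inv_cancel_right]
    rw [h6, card_over_eq hη, h7, h4, top_le_iff.1 (invU_iff.1 hi), card_top, h2]
    ring
  have h6 : ∀ θ, ¬ InvU N ⊤ θ → cc M N θ * Nat.card ↥(stab θ : Subgroup A) ≤ 4 * Nat.card ↥N := fun θ hi => by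
    have h7 : (stab θ : Subgroup A).index ≠ 1 := fun e => hi (invU_iff.2 (index_eq_one.1 e).ge)
    have h8 : (stab θ : Subgroup A).index ≠ 0 := index_ne_zero_of_finite
    have h9 := relIndex_mul_index (le_stab θ)
    have h10 := (stab θ : Subgroup A).card_mul_index
    have h11 := cc_le_relIndex (M := M) θ
    have h12 : cc M N θ ≤ 2 := by nlinarith [Nat.two_le_iff _ |>.2 ⟨h8, h7⟩]
    have h13 : Nat.card ↥(stab θ : Subgroup A) ≤ 2 * Nat.card ↥N := by nlinarith [Nat.two_le_iff _ |>.2 ⟨h8, h7⟩]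
    nlinarith
  have h7 : ∀ a b : ℕ, ∑ θ ∈ Finset.univ.filter (Mem M : IrrCharacter ↥N → Prop),
      ((if InvU N ⊤ θ then a else 0) + b) * Nat.card ↥N = (a * fx M N + b * k0 M ↥N) * Nat.card ↥N := fun a b => by
    rw [← Finset.sum_mul, Finset.sum_add_distrib, ← Finset.sum_filter, Finset.sum_const, Finset.sum_const,
      Finset.filter_filter, fx_eq, k0_eq, Nat.card_eq_fintype_card (α := {θ : IrrCharacter ↥N // Mem M θ ∧ InvU N ⊤ θ}),
      Nat.card_eq_fintype_card (α := {χ : IrrCharacter ↥N // Mem M χ}), Fintype.card_subtype, Fintype.card_subtype, smul_eq_mul, smul_eq_mul, mul_comm _ a, mul_comm _ b]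
  have h8 : 108 ≤ 12 * fx M N + 4 * k0 M ↥N := by
    refine Nat.le_of_mul_le_mul_right (c := Nat.card ↥N) ?_ Nat.card_pos
    rw [← h7, show 108 * Nat.card ↥N = k0 M A * Nat.card A by rw [h, h2]; ring, h1]
    refine Finset.sum_le_sum fun θ hθ => ?_
    split_ifs with h9
    exacts [(h5 θ (Finset.mem_filter.1 hθ).2 h9).le, h6 θ h9]
  have h9 : 16 * fx M N + 0 * k0 M ↥N ≤ 108 := by
    refine Nat.le_of_mul_le_mul_right (c := Nat.card ↥N) ?_ Nat.card_pos
    rw [← h7, show 108 * Nat.card ↥N = k0 M A * Nat.card A by rw [h, h2]; ring, h1]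
    refine Finset.sum_le_sum fun θ hθ => ?_
    split_ifs with h9
    exacts [(h5 θ (Finset.mem_filter.1 hθ).2 h9).ge, by simp]
  have h10 : k0 M ↥N ≡ fx M N [MOD 2] := by
    let f : Function.End {θ : IrrCharacter ↥N // Mem M θ} := fun θ => ⟨cj y θ.1, (mem_cj hM y).2 θ.2⟩
    have h11 : f ^ 2 ^ 2 = 1 := funext fun θ => Subtype.ext (by
      show cj y (cj y (cj y (cj y θ.1))) = θ.1
      rw [← cj_mul, ← cj_mul, ← cj_mul]
      refine cj_of_mem ?_ _
      have h12 := N.pow_index_mem y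
      rw [h4] at h12
      simpa only [pow_succ, pow_zero, one_mul, mul_assoc] using h12)
    have h12 := Equiv.Perm.card_fixedPoints_modEq h11
    rw [← Nat.card_eq_fintype_card, ← Nat.card_eq_fintype_card] at h12
    have h13 : ∀ θ : IrrCharacter ↥N, InvU N ⊤ θ ↔ cj y θ = θ := fun θ =>
      (invU_top_iff hy).trans (invU_iff.trans zpowers_le)
    have h14 : Nat.card ↥(Function.fixedPoints f) = fx M N :=
      (Nat.card_congr (Equiv.subtypeEquivRight (q := fun θ : {θ : IrrCharacter ↥N // Mem M θ} => InvU N ⊤ θ.1)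
        fun θ => Subtype.ext_iff.trans (h13 θ.1).symm)).trans
        (Nat.card_congr (Equiv.subtypeSubtypeEquivSubtypeInter _ _))
    rwa [h14] at h12
  unfold Nat.ModEq at h10
  omega

end Abs

variable {S : Type} [Group S] [Finite S]

/-- `m` members which are fixed by all automorphisms -/
def Fxd (M : Ideal AlgInt) (S : Type) [Group S] (m : ℕ) : Prop :=
  ∃ θ : Fin m → IrrCharacter S, Function.Injective θ ∧ ∀ i, Mem M (θ i) ∧ ∀ σ, Fixes σ (θ i)

variable (hM : IsPModular 3 M) (hi : Function.Injective (MulAut.conj : S →* MulAut S)) {B C Y : Subgroup (MulAut S)}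

include hM in
theorem k0_sub (h : C ≤ B) : k0 M ↥(C.subgroupOf B) = k0 M ↥C := Res.k0_congr hM (subgroupOfEquivOfLe h)

include hM hi in
theorem k0_inn (hB : Inn S ≤ B) : k0 M ↥((Inn S).subgroupOf B) = k0 M S := Res.k0_congr hM (innEquiv hi hB)

include hM hi in
theorem Fxd.le {m : ℕ} (h : Fxd M S m) (hB : Inn S ≤ B) : m ≤ fx M ((Inn S).subgroupOf B) := by
  obtain ⟨θ, h1, h2⟩ := h
  have h3 := le_fx (M := M) (fun i => tr (innEquiv hi hB) (θ i)) ((tr _).injective.comp h1)
    (fun i => (mem_tr hM _).2 (h2 i).1) fun i g _ x => by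
      rw [tr_apply, tr_apply, ← au_apply, (h2 i).2]
  rwa [Fintype.card_fin] at h3

include hM hi in
theorem lo_one (hB : Inn S ≤ B) (h : (Inn S).relIndex B = 1) (h1 : 10 ≤ k0 M S) : 10 ≤ k0 M ↥B := by
  rw [← k0_inn hM hi hB, subgroupOf_eq_top.2 (relIndex_eq_one.1 h), Res.k0_congr hM topEquiv] at h1
  exact h1

include hM hi in
theorem lo_two (hB : Inn S ≤ B) (h : (Inn S).relIndex B = 2) {m : ℕ} (hf : Fxd M S m) (h1 : 10 ≤ k0 M S)
    (h2 : 19 ≤ 3 * m + k0 M S) : 10 ≤ k0 M ↥B :=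
  up hM h (hf.le hM hi hB) (by rwa [k0_inn hM hi hB]) (by rwa [k0_inn hM hi hB])

include hM in
theorem lo_top (h : Y.index = 2) (h1 : 19 ≤ k0 M ↥Y) (hB : B.index = 1) : 10 ≤ k0 M ↥B := by
  obtain rfl := index_eq_one.1 hB
  have h2 : (Y.subgroupOf ⊤).index = 2 := (relIndex_top_right Y).trans h
  have := normal_of_index_eq_two h2
  exact up hM h2 (Nat.zero_le _) (by rw [k0_sub hM le_top]; omega) (by rw [k0_sub hM le_top]; omega)

include hM hi in
/-- **`|Out S| = 4`** -/
theorem lo3_four (hr : Rig S) (ho : Nat.card (Out S) = 4) (h : AdY 27 Y) (hd : (Inn S).relIndex Y = 2)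
    (hf : Fxd M S 2) : Lo3 M S := by
  refine lo3_of_sub hM fun B hB _ => ?_
  have h1 := h.k0 hM hi hr
  have h2 := down hM (N := (Inn S).subgroupOf Y) hd
  rw [k0_inn hM hi h.inn] at h2
  have h3 : (Inn S).relIndex B * B.index = 4 := (relIndex_mul_index hB).trans ho
  have h4 : (Inn S).relIndex Y * Y.index = 4 := (relIndex_mul_index h.inn).trans ho
  have h5 : (Inn S).relIndex B ≤ 4 := Nat.le_of_dvd (by decide) ⟨_, h3.symm⟩
  generalize hn : (Inn S).relIndex B = n at h3 h5
  interval_cases n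
  · omega
  · exact lo_one hM hi hB hn (by omega)
  · exact lo_two hM hi hB hn hf (by omega) (by omega)
  · omega
  · exact lo_top hM (Y := Y) (by rw [hd] at h4; omega) (by omega) (by omega)

include hM hi in
/-- **`|Out S| = 8`** -/
theorem lo3_eight (hr : Rig S) (ho : Nat.card (Out S) = 8) (h : AdY 27 Y) (hd : (Inn S).relIndex Y = 4)
    (hc : ∃ y ∈ Y, Y = Inn S ⊔ zpowers y)
    (h27 : Nat.card {χ : IrrCharacter ↥Y // ¬ 3 ∣ charDegree (χ : ↥Y → ℂ)} ≤ 27) (hf : Fxd M S 3) : Lo3 M S := by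
  refine lo3_of_sub hM fun B hB _ => ?_
  have h1 := h.k0 hM hi hr
  have hm : ∀ C : Subgroup (MulAut S), Inn S ≤ C → ¬ 3 ∣ (Inn S).relIndex C → AllM M ↥C := fun C h1 h2 =>
    hr.allM hM (innEquiv hi h1) (cent_inn hi h1) h2
  have h2 : 10 ≤ k0 M S := by
    obtain ⟨y, hy, e⟩ := hc
    rw [← k0_inn hM hi h.inn]
    refine ten_of_four hM hd (y := ⟨y, hy⟩) ?_ (hm Y h.inn h.cop) (le_antisymm (le_trans ?_ h27) h1)
    · refine map_injective Y.subtype_injective ?_
      rw [Subgroup.map_sup, map_subgroupOf_eq_of_le h.inn, MonoidHom.map_zpowers, ← MonoidHom.range_eq_map,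
        range_subtype]
      exact e.symm
    · have : Finite (IrrCharacter ↥Y) := Characters.Core.finite_irr
      exact Nat.card_le_card_of_injective (fun χ => ⟨χ.1, χ.2.2⟩) fun _ _ e => Subtype.ext (congrArg (·.1) e)
  have h3 : (Inn S).relIndex B * B.index = 8 := (relIndex_mul_index hB).trans ho
  have h4 : (Inn S).relIndex Y * Y.index = 8 := (relIndex_mul_index h.inn).trans ho
  have h5 : (Inn S).relIndex B ≤ 8 := Nat.le_of_dvd (by decide) ⟨_, h3.symm⟩
  have h6 : Y.index = 2 := by rw [hd] at h4; omega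
  generalize hn : (Inn S).relIndex B = n at h3 h5
  interval_cases n
  · omega
  · exact lo_one hM hi hB hn h2
  · exact lo_two hM hi hB hn hf h2 (by omega)
  · omega
  · by_cases h7 : B = Y
    · rw [h7]
      omega
    have key : ∀ C D : Subgroup (MulAut S), Inn S ≤ C → (Inn S).relIndex C = 4 → (Inn S).relIndex D = 4 → D.index = 2 →
        C ≠ D → D.relIndex C = 2 := fun C D a1 a2 a3 a4 a5 => by
      have := normal_of_index_eq_two a4
      refine ((Nat.dvd_prime Nat.prime_two).1 (a4 ▸ relIndex_dvd_index_of_normal D C)).resolve_left fun e => a5 ?_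
      have a6 := relIndex_mul_relIndex _ _ _ a1 (relIndex_eq_one.1 e)
      rw [a2, a3] at a6
      exact le_antisymm (relIndex_eq_one.1 e) (relIndex_eq_one.1 (by omega))
    have h8 : (B ⊓ Y).relIndex B = 2 := (inf_relIndex_left B Y).trans (key B Y hB hn hd h6 h7)
    have h9 : (B ⊓ Y).relIndex Y = 2 := (inf_relIndex_right B Y).trans (key Y B h.inn hd hn (by omega) (Ne.symm h7))
    have h10 := relIndex_mul_relIndex _ _ _ (le_inf hB h.inn) (inf_le_left : B ⊓ Y ≤ B)
    rw [h8, hn] at h10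
    have h11 := down hM (N := (B ⊓ Y).subgroupOf Y) h9
    rw [k0_sub hM inf_le_right] at h11
    have := normal_of_index_eq_two (H := (B ⊓ Y).subgroupOf B) h8
    refine up hM (N := (B ⊓ Y).subgroupOf B) h8 (two_le_fx hM (L := (Inn S).subgroupOf B) ?_ ?_)
      (by rw [k0_sub hM inf_le_left]; omega) (by rw [k0_sub hM inf_le_left]; omega)
    · rw [relIndex_subgroupOf inf_le_left]
      omega
    · exact allM_congr hM (subgroupOfEquivOfLe inf_le_left) (hm _ (le_inf hB h.inn) (by omega))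
  · omega
  · omega
  · omega
  · exact lo_top hM h6 (by omega) (by omega)

end Cfsg.Agent.KZ.Ch344
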