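import Cfsg.Agent.KZ.Ch344.Grp
import Cfsg.Agent.KZ.Ch3.Tru
import Cfsg.Agent.KZ.Ch3.Out
import Cfsg.Agent.KZ.Dat.GlS

/-!
# KZ, characteristic `3`: the groups `L₄(3)` and `U₄(3)` (helper87)

* `invAll_tw`: invariance up to a twist; `exists_irr`: regular labels in type `A`;
* `fxd_l43`, `fxd_u43`: the fixed members; `lo3_l43`, `lo3_u43`.
-/

set_option autoImplicit false
set_option linter.unusedSectionVars false

namespace Cfsg.Agent.KZ.Ch344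

open Cfsg Cfsg.Agent.DL Cfsg.Agent.DL.PP Cfsg.Agent.DL.Uni Matrix Cfsg.Agent.KZ.Lie Cfsg.Agent.KZ.Ch3 Cfsg.Agent.KZ.Dat
  Cfsg.Agent.KZ.Tool Cfsg.Agent.Nodes.RootsA Cfsg.Agent.ODD.C2 Cfsg.Agent.ODD.C2.GlA Cfsg.Agent.LangThm Equiv
  Cfsg.Agent.Characters.Core

section Gen

variable {p : ℕ} [Fact p.Prime] {k : Type} [Field k] [CharP k p] {Y : Type} [Group Y] {N : Type} [Fintype N]
  [DecidableEq N] {ρ : Y →* GL N k} {F : MulAut Y} {G : Subgroup Y} [IsAlgClosed k] {D : Datum p ρ F G}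
  {w : D.W} {c : Lbl D} {f : Fr D} [Fintype ↥(GF F G)] {Adm : Matrix D.R D.R ℤ → Prop} {S : Type} [Group S]
  {s : Sit D Adm S} {r : S → ℂ}

/-- the class of the pair is fixed up to a twist -/
theorem invAll_tw (hA : Api f) (h : Dsc f s w c r) (hs : ∀ A, Adm A → ∃ cl, s.Tw f cl ∧ Mov D A w (c * cl) w c) :
    InvAll r := fun σ x => by
  obtain ⟨ε, -, h1, h2⟩ := h.dn
  obtain ⟨α, A, h3, h4, h5⟩ := exists_aut' s σ
  obtain ⟨cl, ⟨l, h6, h7⟩, h8⟩ := hs A h4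
  obtain ⟨y, hy⟩ := s.surj x
  have h9 := h5 _ _ (isCharacter_isClassFunction h1) h2 y
  simp only [Pi.smul_apply, RW_mov hA h3 h8 h.fx, h7, h6, Units.val_one, one_mul] at h9
  rw [← hy, h9, h2 y, Pi.smul_apply]

end Gen

/-- transport along a multiple of a permutation matrix -/
theorem tr_iff {ι : Type} [Fintype ι] [DecidableEq ι] (m : ℤ) (π : Perm ι) (c c' : ι → ℂˣ) :
    (∀ v, chr ((m • spm π 1) *ᵥ v) c' = chr v c) ↔ ∀ j, c' (π j) ^ m = c j := by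
  refine ⟨fun h j => ?_, fun h v => ?_⟩
  · have h1 := h (Pi.single j 1)
    rwa [smul_mulVec, spm_mulVec_single, chr_zsmul, Pi.one_apply, Units.val_one, mul_one, chr_single, chr_single] at h1
  · rw [smul_mulVec, chr_zsmul, chr_apply, chr_apply, ← π.prod_comp Finset.univ _ (by simp), ← Finset.prod_zpow]
    refine Finset.prod_congr rfl fun j _ => ?_
    rw [spm_mulVec, Pi.one_apply, Units.val_one, one_mul, ← h j, ← _root_.zpow_mul, ← _root_.zpow_mul, mul_comm]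

theorem pow_iff {ξ : ℂˣ} {n : ℕ} (h : orderOf ξ = n) (a b : ℤ) : ξ ^ a = ξ ^ b ↔ (n : ℤ) ∣ b - a := by
  rw [zpow_eq_zpow_iff_modEq, h, Int.modEq_iff_dvd]

section A

variable {p : ℕ} [Fact p.Prime] {k : Type} [Field k] [CharP k p] {Y : Type} [Group Y] {N : Type} [Fintype N]
  [DecidableEq N] {ρ : Y →* GL N k} {F : MulAut Y} {G : Subgroup Y} [IsAlgClosed k] {D : Datum p ρ F G}
  {w : D.W} {c c' : Lbl D} {f : Fr D} [Fintype ↥(GF F G)] {Adm : Matrix D.R D.R ℤ → Prop} {S : Type} [Group S]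
  {s : Sit D Adm S}

variable (D) in
/-- a datum of type `A` -/
structure TA where
  e : D.W ≃* Perm D.R
  o : D.R
  wm : ∀ u, D.Wm u = spm (e u) 1
  rt : ∀ a, D.Rt a → ∃ i j, i ≠ j ∧ D.wt a = Pi.single i 1 - Pi.single j 1
  ex : ∀ i j, i ≠ j → ∃ a, D.Rt a ∧ D.cor a = Pi.single i 1 - Pi.single j 1 ∧ D.wt a = Pi.single i 1 - Pi.single j 1

variable (t : TA D)

theorem TA.rel_iff (u : D.W) : PP.Rel D u c c' ↔ ∀ j, c' (t.e u j) = c j := by
  have h := tr_iff 1 (t.e u) c c'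
  simp only [one_smul, zpow_one] at h
  rw [← h, PP.Rel, t.wm]

theorem TA.tw_const (hA : Api f) {cl : Lbl D} (h : s.Tw f cl) (j : D.R) : cl j = cl t.o := by
  have h1 := (t.rel_iff _).1 ((h.props hA).1 (t.e.symm (swap t.o j))) t.o
  rwa [MulEquiv.apply_symm_apply, swap_apply_left] at h1

include t in
theorem TA.mov {q m : ℤ} {π τ : Perm D.R} (σ : Perm D.R) (hw : D.Wm w * D.Mx = q • spm π 1)
    (hc : τ * π = π * τ) (h : ∀ j, c' (τ j) ^ m = c j) : Mov D (m • spm σ 1) w c w c' := by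
  have h1 : m • spm σ 1 * D.Wm (t.e.symm (σ⁻¹ * τ)) = m • spm τ 1 := by
    rw [t.wm, MulEquiv.apply_symm_apply, smul_mul_assoc, spm_mul, mul_inv_cancel_left]
    rfl
  refine ⟨t.e.symm (σ⁻¹ * τ), ?_, ?_⟩
  · rw [h1, hw, smul_mul_smul_comm, smul_mul_smul_comm, spm_mul, spm_mul, hc, mul_comm m]
    rfl
  · rw [h1]
    exact (tr_iff m τ c c').2 h

/-- a regular label which is moved by all twists -/
theorem TA.exists_irr (hA : Api f) {ξ : ℂˣ} {m : ℕ} (hξ : orderOf ξ = m) {q : ℤ} {π : Perm D.R}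
    (hw : D.Wm w * D.Mx = q • spm π 1) {x : D.R → ℤ} {a b a' b' : D.R} (hab : a ≠ b) (hab' : a' ≠ b')
    (h1 : ∀ j, q * x (π j) = x j + m * (Pi.single a 1 - Pi.single b 1 + (Pi.single a' 1 - Pi.single b' 1) : D.R → ℤ) j)
    (h2 : ∀ τ : Perm D.R, (∀ j, (m : ℤ) ∣ x j - x (τ j) + (x (τ t.o) - x t.o)) → τ = 1) :
    ∃ r, Dsc f s w (coch x ξ) r ∧ IsIrrCharacter S r := by
  obtain ⟨γ, -, -, hγ⟩ := t.ex a b hab
  obtain ⟨γ', -, -, hγ'⟩ := t.ex a' b' hab'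
  have h3 := zw_of_root (f := f) (s := s) (w := w) (hξ ▸ pow_orderOf_eq_one ξ) (x := x) (γ := γ + γ') (funext fun j => by
    rw [hw, vecMul_smul, Pi.smul_apply, vecMul_spm, Pi.one_apply, Units.val_one, mul_one, map_add, hγ, hγ']
    exact h1 j)
  have h4 : ∀ (v : D.W) (u : Lbl D), (∀ j, u j = u t.o) → PP.Rel D v (coch x ξ * u) (coch x ξ) → v = 1 :=
    fun v u hu h => by
    refine t.e.injective ((h2 _ fun j => ?_).trans (map_one _).symm)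
    have h5 := (t.rel_iff _).1 h j
    have h6 := (t.rel_iff _).1 h t.o
    simp only [Pi.mul_apply, coch_apply] at h5 h6
    rw [hu, ← inv_mul_eq_iff_eq_mul, ← inv_mul_eq_iff_eq_mul.2 h6, ← _root_.zpow_neg, ← _root_.zpow_neg,
      ← _root_.zpow_add, ← _root_.zpow_add, pow_iff hξ] at h5
    convert h5 using 1
    ring
  have h5 : ∀ v, PP.Rel D v (coch x ξ) (coch x ξ) → v = 1 := fun v h => h4 v 1 (fun _ => rfl) (by rwa [mul_one])
  obtain ⟨r, hr⟩ := exists_dsc (gp_of_reg h3.1 h5) h3.2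
  refine ⟨r, hr, hr.irr hA (fun v _ => h5 v) fun cl h6 v _ h7 => funext fun j => ?_⟩
  obtain rfl := h4 v cl (t.tw_const hA h6) h7
  have h8 := (t.rel_iff _).1 h7 j
  rw [map_one, Perm.one_apply, Pi.mul_apply] at h8
  exact mul_eq_left.1 h8.symm

include t in
theorem TA.cenT (hA : Api f) : CenT f s := cenT_of_prim hA fun a ha => by
  obtain ⟨i, j, hij, h⟩ := t.rt a ha
  exact ⟨Pi.single i 1, by simp [h, hij]⟩

theorem ro_coch {ξ : ℂˣ} {m : ℕ} (hξ : orderOf ξ = m) (x : D.R → ℤ) : RO D (coch x ξ) m :=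
  fun a _ => by rw [chr_coch, ← zpow_natCast, ← _root_.zpow_mul, mul_comm, _root_.zpow_mul, zpow_natCast, ← hξ,
    pow_orderOf_eq_one, _root_.one_zpow]

include t in
theorem TA.not_ro {ξ : ℂˣ} {m l : ℕ} (hξ : orderOf ξ = m) {x : D.R → ℤ} {i j : D.R} (hij : i ≠ j)
    (h : ¬ (m : ℤ) ∣ (x i - x j) * l) : ¬ RO D (coch x ξ) l := fun h1 => by
  obtain ⟨a, h2, h4, -⟩ := t.ex i j hij
  have h3 := h1 _ h2
  rw [h4, chr_sub, chr_single, chr_single, coch_apply, coch_apply, ← _root_.zpow_neg, ← _root_.zpow_add, ← zpow_natCast,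
    ← _root_.zpow_mul, eq_comm, ← zpow_zero ξ, pow_iff hξ, sub_zero, ← sub_eq_add_neg] at h3
  exact h h3

end A

/-- the data of `GL` and `GU` are of type `A` -/
noncomputable def taA {p : ℕ} [Fact p.Prime] {k : Type} [Field k] [CharP k p] [IsAlgClosed k] {n e : ℕ}
    (hk : ∀ a : k, ∃ j, 0 < j ∧ a ^ p ^ j = a) (he : 0 < e) {α : MulAut (GL (Fin (n + 1)) k)}
    {g : (Fin n → ℤ) → Fin n → ℤ} {B : Matrix (Fin (n + 1)) (Fin (n + 1)) ℤ}
    (T : (smA n).Sy (csA n) (isCartan n) α g B) : TA (datA hk he T) where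
  e := pwA n
  o := (0 : Fin (n + 1))
  wm := datA_Wm hk he T
  rt a ha := let ⟨i, j, hij, h⟩ := (datA_rt hk he T a).1 ha; ⟨i, j, hij, h ▸ datA_wt hk he T i j⟩
  ex i j hij := have h := (datA_rt hk he T _).2 ⟨i, j, hij, rfl⟩
    ⟨_, h, (datA_cor hk he T h).trans (datA_wt hk he T i j), datA_wt hk he T i j⟩

theorem exists_ord (n : ℕ) (hn : n ≠ 0) : ∃ ξ : ℂˣ, orderOf ξ = n :=
  ⟨(Complex.isPrimitiveRoot_exp n hn).isUnit hn |>.unit,
    ((Complex.isPrimitiveRoot_exp n hn).isUnit_unit hn).eq_orderOf.symm⟩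

section Fam

variable {M : Ideal AlgInt} {S : Type} [Group S] [Finite S]

theorem ip_self [Fintype S] (ψ : IrrCharacter S) : classInner (ψ : S → ℂ) (ψ : S → ℂ) ≠ 0 := by
  rw [classInner_irr_self ψ.2]
  exact one_ne_zero

theorem fxd_two (hM : IsPModular 3 M) (hm : AllM M S) {a : S → ℂ} (a1 : IsIrrCharacter S a) (a2 : Ch a) (a3 : InvAll a)
    (a4 : Orth a fun _ => 1) : Fxd M S 2 := by
  have := Fintype.ofFinite S
  have h1 := nontriv_iff.1 (nontriv_of_orth a4 (ip_self ⟨a, a1⟩))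
  refine ⟨![triv S, ⟨a, a1⟩], fun i j hij => ?_, fun i => ?_⟩
  · fin_cases i <;> fin_cases j
    exacts [rfl, absurd hij.symm h1, absurd hij h1, rfl]
  · fin_cases i
    exacts [⟨mem_triv hM, fun _ _ => rfl⟩, ⟨hm _ a2.deg, a3⟩]

theorem fxd_three (hM : IsPModular 3 M) (hm : AllM M S) {a b : S → ℂ} (a1 : IsIrrCharacter S a) (a2 : Ch a)
    (a3 : InvAll a) (a4 : Orth a fun _ => 1) (b1 : IsIrrCharacter S b) (b2 : Ch b) (b3 : InvAll b)
    (b4 : Orth b fun _ => 1) (h : Orth a b) : Fxd M S 3 := by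
  have := Fintype.ofFinite S
  have h1 := nontriv_iff.1 (nontriv_of_orth a4 (ip_self ⟨a, a1⟩))
  have h2 := nontriv_iff.1 (nontriv_of_orth b4 (ip_self ⟨b, b1⟩))
  have h3 : (⟨a, a1⟩ : IrrCharacter S) ≠ ⟨b, b1⟩ := fun e =>
    ne_of_orth a2.char b2.char h (ip_self ⟨a, a1⟩) (by rw [e]; exact ip_self ⟨b, b1⟩)
  refine ⟨![triv S, ⟨a, a1⟩, ⟨b, b1⟩], fun i j hij => ?_, fun i => ?_⟩
  · fin_cases i <;> fin_cases j
    exacts [rfl, absurd hij.symm h1, absurd hij.symm h2, absurd hij h1, rfl, absurd hij h3, absurd hij h2,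
      absurd hij.symm h3, rfl]
  · fin_cases i
    exacts [⟨mem_triv hM, fun _ _ => rfl⟩, ⟨hm _ a2.deg, a3⟩, ⟨hm _ b2.deg, b3⟩]

end Fam

/-! ### the labels -/

/-- the exponents of the label of order five -/
def x5 : Fin 4 → ℤ := ![1, 2, -2, -1]

/-- the exponents of the label of order eight -/
def x8 : Fin 4 → ℤ := ![1, -3, 0, 2]

/-- multiplication by two on the exponents -/
def p5 : Perm (Fin 4) := swap 0 1 * swap 1 3 * swap 3 2

theorem reg5 : ∀ τ : Perm (Fin 4), (∀ j, ((5 : ℕ) : ℤ) ∣ x5 j - x5 (τ j) + (x5 (τ 0) - x5 0)) → τ = 1 := by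
  decide +kernel

theorem reg8 : ∀ τ : Perm (Fin 4), (∀ j, ((8 : ℕ) : ℤ) ∣ x8 j - x8 (τ j) + (x8 (τ 0) - x8 0)) → τ = 1 := by
  decide +kernel

theorem dvd_of_mod {n m r a b : ℤ} (h : m % n = r) (h1 : n ∣ a - b * r) : n ∣ a - b * m := by
  have h2 : a - b * m = a - b * r - n * (b * (m / n)) := by
    rw [← h]
    linear_combination b * Int.mul_ediv_add_emod m n
  rw [h2]
  exact h1.sub (dvd_mul_right _ _)

theorem stb5 {ξ : ℂˣ} (hξ : orderOf ξ = 5) {m : ℤ} (hm : ¬ 5 ∣ m) :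
    ∃ τ : Perm (Fin 4), Commute τ p5 ∧ ∀ j, coch x5 ξ (τ j) ^ m = coch x5 ξ j := by
  have key : ∀ (τ : Perm (Fin 4)) (r : ℤ), m % ((5 : ℕ) : ℤ) = r → (∀ j, ((5 : ℕ) : ℤ) ∣ x5 j - x5 (τ j) * r) →
      ∀ j, coch x5 ξ (τ j) ^ m = coch x5 ξ j := fun τ r h1 h2 j => by
    rw [coch_apply, coch_apply, ← _root_.zpow_mul, pow_iff hξ]
    exact dvd_of_mod h1 (h2 j)
  have h : m % ((5 : ℕ) : ℤ) = 1 ∨ m % ((5 : ℕ) : ℤ) = 2 ∨ m % ((5 : ℕ) : ℤ) = 3 ∨ m % ((5 : ℕ) : ℤ) = 4 := by omega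
  rcases h with h | h | h | h
  · exact ⟨1, Commute.one_left _, key _ _ h (by decide +kernel)⟩
  · exact ⟨p5⁻¹, (Commute.refl _).inv_left, key _ _ h (by decide +kernel)⟩
  · exact ⟨p5, Commute.refl _, key _ _ h (by decide +kernel)⟩
  · exact ⟨p5 * p5, (Commute.refl _).mul_left (Commute.refl _), key _ _ h (by decide +kernel)⟩

theorem not_five (j : ℕ) : ¬ (5 : ℤ) ∣ ((3 : ℕ) : ℤ) ^ j := fun h =>
  absurd ((Nat.prime_iff_prime_int.1 Nat.prime_five).dvd_of_dvd_pow h) (by decide)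

theorem mod_eight (j : ℕ) : ((3 : ℕ) : ℤ) ^ j % ((8 : ℕ) : ℤ) = 1 ∨ ((3 : ℕ) : ℤ) ^ j % ((8 : ℕ) : ℤ) = 3 := by
  induction j with
  | zero => exact .inl rfl
  | succ j ih =>
    rw [pow_succ]
    omega

theorem eq_three {p e : ℕ} (h : 3 = p ^ e) : p = 3 ∧ e = 1 := Nat.prime_three.pow_eq_iff.1 h.symm

attribute [local instance] finite_WA

variable {M : Ideal AlgInt} {F : Type} [Field F] [Fintype F]

/-- the character of degree `416` -/
theorem fxd_l43 (hA : BoxApi) (hM : IsPModular 3 M) (hF : Fintype.card F = 3)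
    (hm : AllM M (ProjectiveSpecialLinearGroup (Fin 4) F)) : Fxd M (ProjectiveSpecialLinearGroup (Fin 4) F) 2 := by
  obtain ⟨p, hp, e, k, _, _, _, φ, hk, he, h⟩ := hasL F
  obtain ⟨rfl, rfl⟩ := eq_three (hF.symm.trans h)
  have := (datL 3 hk he).amb.finite_GF (GA 3 k)
  have := Fintype.ofFinite (GF (1 * frP _ 3 k 1) (GA 3 k))
  obtain ⟨f⟩ := nonempty_fr (datL 3 hk he)
  have api := hA f (datL_qs 3 hk he)
  obtain ⟨ξ, hξ⟩ := exists_ord 5 (by decide)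
  let t := taA hk he (smA 3).sy_one
  let s := (covL φ hk he h (n := 3) (by decide) (by omega)).sit
  have hw : (datL 3 hk he).Wm ((pwA 3).symm p5) * (datL 3 hk he).Mx = (3 : ℤ) • spm p5 1 := by
    show (okA 3).wm hk he _ _ * ((((3 : ℕ) : ℤ) ^ 1) • (1 : Matrix (Fin 4) (Fin 4) ℤ)) =
      ((3 : ℤ) • spm p5 1 : Matrix (Fin 4) (Fin 4) ℤ)
    rw [wm_A, MulEquiv.apply_symm_apply, mul_smul_comm, mul_one]
    rfl
  obtain ⟨r, h1, h2⟩ := t.exists_irr (s := s) api hξ hw (x := x5) (a := (0 : Fin 4)) (b := (1 : Fin 4)) (a' := (2 : Fin 4))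
    (b' := (3 : Fin 4)) (by decide : (0 : Fin 4) ≠ 1) (by decide : (2 : Fin 4) ≠ 3) (by decide +kernel : ∀ j : Fin 4, 3 * x5 (p5 j) = x5 j + ((5 : ℕ) : ℤ) *
      (Pi.single 0 1 - Pi.single 1 1 + (Pi.single 2 1 - Pi.single 3 1) : Fin 4 → ℤ) j) reg5
  refine fxd_two hM hm h2 (h1.ch api rfl) (h1.invAll api ?_) (h1.orth_one_ro api (t.cenT api)
    (t.not_ro (l := 1) hξ (x := x5) (i := (0 : Fin 4)) (j := (1 : Fin 4)) (by decide : (0 : Fin 4) ≠ 1)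
      (by decide : ¬ ((5 : ℕ) : ℤ) ∣ (x5 0 - x5 1) * (1 : ℕ))))
  rintro A ⟨j, rfl | rfl⟩
  · obtain ⟨τ, h3, h4⟩ := stb5 hξ (not_five j)
    rw [← spm_one]
    exact t.mov 1 hw h3 h4
  · obtain ⟨τ, h3, h4⟩ := stb5 hξ (m := -((3 : ℕ) : ℤ) ^ j) fun h => not_five j (dvd_neg.1 h)
    rw [BA_eq, smul_neg, ← neg_smul]
    exact t.mov Fin.revPerm hw h3 h4

/-- a linear character of order four -/
theorem exists_lin {H : Type} [Group H] [Finite H] {k : Type} [Field k] (δ : H →* kˣ) (h4 : ∀ g, δ g ^ 4 = 1) {y : H}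
    (hy : δ y ^ 2 ≠ 1) : ∃ l : H →* ℂˣ, (∀ g, δ g = 1 → l g = 1) ∧ l ^ 4 = 1 ∧ l ^ 2 ≠ 1 := by
  have : Finite ↥δ.range := Finite.of_surjective _ δ.rangeRestrict_surjective
  have : NeZero ((Monoid.exponent ↥δ.range : ℕ) : ℂ) := ⟨Nat.cast_ne_zero.2 Monoid.exponent_ne_zero_of_finite⟩
  obtain ⟨φ, hφ⟩ := CommGroup.exists_apply_ne_one_of_hasEnoughRootsOfUnity ↥δ.range ℂ (a := δ.rangeRestrict y ^ 2)
    fun e => hy (congrArg Subtype.val e)
  refine ⟨φ.comp δ.rangeRestrict, fun g hg => ?_, MonoidHom.ext fun g => ?_, fun e => hφ ?_⟩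
  · rw [MonoidHom.comp_apply, show δ.rangeRestrict g = 1 from Subtype.ext hg, map_one]
  · rw [MonoidHom.pow_apply, MonoidHom.comp_apply, ← map_pow, show δ.rangeRestrict g ^ 4 = 1 from Subtype.ext (h4 g),
      map_one, MonoidHom.one_apply]
  · rw [map_pow]
    exact DFunLike.congr_fun e y

/-- a root of order eight -/
theorem exists_eight {u : ℂˣ} (h4 : u ^ 4 = 1) (h2 : u ^ 2 ≠ 1) : ∃ ζ : ℂˣ, orderOf ζ = 8 ∧ u = ζ ^ (6 : ℤ) := by
  obtain ⟨z, hz⟩ := IsAlgClosed.exists_pow_nat_eq ((u ^ 3 : ℂˣ) : ℂ) two_pos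
  have h0 : z ≠ 0 := fun e => (u ^ 3).ne_zero (by rw [← hz, e]; simp)
  have h1 : Units.mk0 z h0 ^ 2 = u ^ 3 := Units.ext hz
  refine ⟨Units.mk0 z h0, orderOf_eq_prime_pow (p := 2) (n := 2) (fun e => h2 ?_) ?_, ?_⟩
  · rw [show 2 ^ 2 = 2 * 2 from rfl, pow_mul, h1, ← pow_mul, show 3 * 2 = 4 + 2 from rfl, pow_add, h4, one_mul] at e
    exact e
  · rw [show 2 ^ (2 + 1) = 2 * 4 from rfl, pow_mul, h1, ← pow_mul, mul_comm, pow_mul, h4, one_pow]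
  · rw [show (6 : ℤ) = ((2 * 3 : ℕ) : ℤ) from rfl, zpow_natCast, pow_mul, h1, ← pow_mul,
      show 3 * 3 = 4 * 2 + 1 from rfl, pow_succ, pow_mul, h4, one_pow, one_mul]

/-- the characters of degree `896` and `560` -/
theorem fxd_u43 (hA : BoxApi) (hM : IsPModular 3 M) (hF : Fintype.card F = 3 ^ 2) (hm : AllM M (PSU 4 F 3)) :
    Fxd M (PSU 4 F 3) 3 := by
  obtain ⟨p, hp, e, k, _, _, _, φ, hk, he, h⟩ := hasU F hF
  obtain ⟨rfl, rfl⟩ := eq_three h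
  have := (datU 3 hk he).amb.finite_GF (GA 3 k)
  have := Fintype.ofFinite (GF (γA 3 k * frP _ 3 k 1) (GA 3 k))
  obtain ⟨f⟩ := nonempty_fr (datU 3 hk he)
  have api := hA f (datU_qs 3 hk he)
  obtain ⟨ξ, hξ⟩ := exists_ord 5 (by decide)
  let t := taA hk he (syG (n := 3) (k := k))
  let s : Sit (datU 3 hk he) (AdmQ 3) (PSU 4 F 3) := (covU φ hk he (n := 3) hF (by decide) (by decide)).sit
  have hw : ∀ π : Perm (Fin 4), (datU 3 hk he).Wm ((pwA 3).symm (π * Fin.revPerm⁻¹)) * (datU 3 hk he).Mx =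
      (-3 : ℤ) • spm π 1 := fun π => by
    show (okA 3).wm hk he _ _ * ((((3 : ℕ) : ℤ) ^ 1) • BA 3) = ((-3 : ℤ) • spm π 1 : Matrix (Fin 4) (Fin 4) ℤ)
    rw [wm_A, MulEquiv.apply_symm_apply, BA_eq, smul_neg, ← neg_smul, mul_smul_comm, spm_mul, inv_mul_cancel_right]
    rfl
  obtain ⟨d, hd⟩ := IsAlgClosed.exists_pow_nat_eq (-1 : k) two_pos
  have hd0 : d ≠ 0 := fun e => by simp [e] at hd
  have hd2 : Units.mk0 d hd0 ^ 2 = -1 := Units.ext hd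
  obtain ⟨y, hy, hy'⟩ := exists_det_U (n := 3) hk he (d := Units.mk0 d hd0) (by
    rw [show 3 ^ 1 + 1 = 2 * 2 from rfl, pow_mul, hd2, neg_one_sq])
  obtain ⟨l, l1, l2, l3⟩ := exists_lin
    (GeneralLinearGroup.det.comp (GF (γA 3 k * frP _ 3 k 1) (GA 3 k)).subtype) (fun g => det_GFU g.2) (y := ⟨y, hy⟩) (by
      show GeneralLinearGroup.det y ^ 2 ≠ 1
      rw [hy', hd2]
      intro e
      have h1 : ((2 : ℕ) : k) = 0 := by
        have h2 : (-1 : k) = 1 := congrArg Units.val e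
        linear_combination -h2
      exact absurd ((CharP.cast_eq_zero_iff k 3 2).1 h1) (by decide))
  obtain ⟨cl, c1, -, -, c2, -⟩ := s.exists_lbl api (l := l) fun x =>
    l1 _ ((covU_H0 φ hk he (n := 3) hF (by decide) (by decide) _).1 x.2).2
  have c3 := t.tw_const api c1
  obtain ⟨ζ, hζ, hu⟩ := exists_eight (u := cl t.o) (congrFun ((c2 4).1 l2) _) fun e =>
    l3 ((c2 2).2 (funext fun j => by rw [Pi.pow_apply, c3, e]; rfl))
  obtain ⟨a, a1, a2⟩ := t.exists_irr (s := s) api hξ (hw p5⁻¹) (x := x5) (a := (0 : Fin 4)) (b := (1 : Fin 4))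
    (a' := (2 : Fin 4)) (b' := (3 : Fin 4)) (by decide : (0 : Fin 4) ≠ 1) (by decide : (2 : Fin 4) ≠ 3)
    (by decide +kernel : ∀ j : Fin 4, -3 * x5 (p5⁻¹ j) = x5 j + ((5 : ℕ) : ℤ) *
      (Pi.single 0 1 - Pi.single 1 1 + (Pi.single 2 1 - Pi.single 3 1) : Fin 4 → ℤ) j) reg5
  obtain ⟨b, b1, b2⟩ := t.exists_irr (s := s) api hζ (hw (swap 0 1)) (x := x8) (a := (0 : Fin 4)) (b := (1 : Fin 4))
    (a' := (1 : Fin 4)) (b' := (3 : Fin 4)) (by decide : (0 : Fin 4) ≠ 1) (by decide : (1 : Fin 4) ≠ 3)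
    (by decide +kernel : ∀ j : Fin 4, -3 * x8 (swap 0 1 j) = x8 j + ((8 : ℕ) : ℤ) *
      (Pi.single 0 1 - Pi.single 1 1 + (Pi.single 1 1 - Pi.single 3 1) : Fin 4 → ℤ) j) reg8
  refine fxd_three hM hm a2 (a1.ch api rfl) (a1.invAll api ?_) (a1.orth_one_ro api (t.cenT api)
    (t.not_ro (l := 1) hξ (x := x5) (i := (0 : Fin 4)) (j := (1 : Fin 4)) (by decide : (0 : Fin 4) ≠ 1)
      (by decide : ¬ ((5 : ℕ) : ℤ) ∣ (x5 0 - x5 1) * (1 : ℕ)))) b2 (b1.ch api rfl) (invAll_tw api b1 ?_)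
    (b1.orth_one_ro api (t.cenT api)
      (t.not_ro (l := 1) hζ (x := x8) (i := (0 : Fin 4)) (j := (1 : Fin 4)) (by decide : (0 : Fin 4) ≠ 1)
        (by decide : ¬ ((8 : ℕ) : ℤ) ∣ (x8 0 - x8 1) * (1 : ℕ))))
    (a1.orth_ro api (t.cenT api) b1 (t.not_ro (l := 8) hξ (x := x5) (i := (0 : Fin 4)) (j := (1 : Fin 4))
      (by decide : (0 : Fin 4) ≠ 1) (by decide : ¬ ((5 : ℕ) : ℤ) ∣ (x5 0 - x5 1) * (8 : ℕ))) (ro_coch hζ _))
  · rintro A ⟨j, rfl⟩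
    obtain ⟨τ, h3, h4⟩ := stb5 hξ (not_five j)
    rw [← spm_one]
    exact t.mov 1 (hw _) h3.inv_right h4
  · rintro A ⟨j, rfl⟩
    rw [← spm_one]
    rcases mod_eight j with h3 | h3
    · refine ⟨1, s.tw_one, t.mov (τ := 1) 1 (hw _) (Commute.one_left _) fun i => ?_⟩
      rw [mul_one]
      show (ζ ^ x8 i) ^ _ = ζ ^ x8 i
      rw [← _root_.zpow_mul, pow_iff hζ]
      exact dvd_of_mod h3 (by rw [mul_one, sub_self]; exact dvd_zero _)
    · refine ⟨cl, c1, t.mov (τ := (swap 0 1 * swap 2 3 : Perm (Fin 4))) 1 (hw _)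
        (by decide +kernel : (swap 0 1 * swap 2 3 : Perm (Fin 4)) * swap 0 1 = swap 0 1 * (swap 0 1 * swap 2 3)) fun i => ?_⟩
      rw [Pi.mul_apply, c3, hu]
      show (ζ ^ x8 _) ^ _ = ζ ^ x8 i * _
      rw [← _root_.zpow_mul, ← _root_.zpow_add, pow_iff hζ]
      exact dvd_of_mod h3 ((by decide +kernel : ∀ i : Fin 4,
        ((8 : ℕ) : ℤ) ∣ x8 i + 6 - x8 ((swap 0 1 * swap 2 3 : Perm (Fin 4)) i) * 3) i)

/-- **`L₄(3)`** -/
theorem lo3_l43 (hA : BoxApi) (hM : IsPModular 3 M) (hF : Fintype.card F = 3)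
    (hs : IsSimpleGroup (ProjectiveSpecialLinearGroup (Fin 4) F))
    (hab : ¬ IsMulCommutative (ProjectiveSpecialLinearGroup (Fin 4) F))
    {Y : Subgroup (MulAut (ProjectiveSpecialLinearGroup (Fin 4) F))} (h : AdY 27 Y)
    (hd : (Inn (ProjectiveSpecialLinearGroup (Fin 4) F)).relIndex Y = 2) :
    Lo3 M (ProjectiveSpecialLinearGroup (Fin 4) F) :=
  have hL : IsLieTypeChar 3 (ProjectiveSpecialLinearGroup (Fin 4) F) := .inl ⟨F, inferInstance, inferInstance,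
    charP_of_card_eq_prime_pow (f := 1) hF, 4, by decide, by omega, ⟨MulEquiv.refl _⟩⟩
  lo3_four hM (conj_inj hs hab) (rig_of_lie hs hL) (out_psl43 hF).1 h hd (fxd_l43 hA hM hF (allM_of_lie hM hs hab hL))

/-- **`U₄(3)`** -/
theorem lo3_u43 (hA : BoxApi) (hM : IsPModular 3 M) (hF : Fintype.card F = 3 ^ 2) (hs : IsSimpleGroup (PSU 4 F 3))
    (hab : ¬ IsMulCommutative (PSU 4 F 3)) {Y : Subgroup (MulAut (PSU 4 F 3))} (h : AdY 27 Y)
    (hd : (Inn (PSU 4 F 3)).relIndex Y = 4) (hc : ∃ y ∈ Y, Y = Inn (PSU 4 F 3) ⊔ Subgroup.zpowers y)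
    (h27 : Nat.card {χ : IrrCharacter ↥Y // ¬ 3 ∣ charDegree (χ : ↥Y → ℂ)} ≤ 27) : Lo3 M (PSU 4 F 3) :=
  have hL : IsLieTypeChar 3 (PSU 4 F 3) := .inr (.inr (.inl ⟨F, inferInstance, inferInstance,
    charP_of_card_eq_prime_pow hF, 4, 3, hF, by decide, by decide, ⟨MulEquiv.refl _⟩⟩))
  let ⟨e⟩ := out_psu43 hF
  lo3_eight hM (conj_inj hs hab) (rig_of_lie hs hL) ((Nat.card_congr e.toEquiv).trans card_D8) h hd hc h27
    (fxd_u43 hA hM hF (allM_of_lie hM hs hab hL))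

end Cfsg.Agent.KZ.Ch344
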